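import Cfsg.Agent.H80.Alt.Final
import Cfsg.Agent.H80.Types.Classify

/-! The classification by the extraspecial core of the centralizer. -/

set_option autoImplicit false

namespace Cfsg.Agent.H80.Alt

theorem classify_core {G : Type*} [Group G] [Finite G]
    (s : G) (hs : orderOf s = 2) (L : Subgroup G) (hL : L = Subgroup.centralizer ({s} : Set G))
    (Q : Subgroup G) (hQ : Q = (Cfsg.pCore 2 L).map L.subtype)
    (hQex : Cfsg.IsExtraspecial 2 Q) (hQcard : Nat.card Q = 32)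
    (e : L ⧸ Cfsg.pCore 2 L ≃* Equiv.Perm (Fin 3))
    (X : Sylow 3 L)
    (hCQX : Q ⊓ Subgroup.centralizer (((X : Subgroup L).map L.subtype : Subgroup G) : Set G) =
      Subgroup.zpowers s)
    (hnwc : ∃ g : G, g * s * g⁻¹ ∈ Q ∧ g * s * g⁻¹ ≠ s) :
    (∃ (N : Subgroup G) (_ : N.Normal), IsMulCommutative N ∧ (∀ n ∈ N, n ^ 2 = 1) ∧
        Nat.card N = 8 ∧
        Nonempty (G ⧸ N ≃* Matrix.ProjectiveSpecialLinearGroup (Fin 3) (ZMod 2))) ∨
      Spor.IsoM12 G ∨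
      ∃ φ : A8 →* G, Function.Injective φ ∧ ∃ u v : A8, (u : P8) = s8 ∧ (v : P8) = t8 ∧
        (∀ x : G, x * φ u = φ u * x → x ∈ φ.range) ∧ ¬ IsConj (φ u) (φ v) := by
  obtain ⟨g, hg, hne⟩ := hnwc
  rcases Types.exists_frame s hs L hL Q hQ hQex hQcard e X hCQX ⟨g, hg, hne⟩ with ⟨⟨F⟩⟩ | ⟨⟨F⟩⟩
  · exact (F.classify hL hQ hQcard hg hne).imp id Or.inr
  · exact (F.classify (exists_fusion_of_core hL hQ hg hne)).imp id Or.inl

end Cfsg.Agent.H80.Alt
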