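import Cfsg.Agent.H80.Alt.QuotientPSL
import Cfsg.Agent.H80.M12.Transfer

/-! The groups with the centralizer of the permutation group of twelve letters. -/

set_option autoImplicit false
set_option maxRecDepth 8000

namespace Cfsg.Agent.H80.M12

open Cfsg.Agent.H16

theorem elem_self_chk : allL (fun a => imp (allL fun x => imp (memE x) (commB a x)) (memE a)) =
    true := by
  decide +kernel

theorem memE_sI : memE sI = true := by decide +kernel

namespace Frame

variable {G : Type*} [Group G] {s : G} (F : Frame s)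

theorem s_mem_elem : s ∈ F.elem := ⟨sI, by decide, memE_sI, F.map_s⟩

include F in
theorem card_centralizer : Nat.card (Subgroup.centralizer ({s} : Set G)) = 192 := by
  refine ((Nat.card_congr (Equiv.ofBijective (fun a : Fin 192 =>
    (⟨F.ι a, F.mem_centralizer.mpr ⟨a, a.2, rfl⟩⟩ : ↥(Subgroup.centralizer ({s} : Set G))))
    ⟨fun a b h => Fin.ext (F.inj _ _ a.2 b.2 (congrArg Subtype.val h)), ?_⟩)).symm).trans
    (Nat.card_fin 192)
  rintro ⟨x, hx⟩
  obtain ⟨a, ha, hae⟩ := F.mem_centralizer.mp hx
  exact ⟨⟨a, ha⟩, Subtype.ext hae⟩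

include F in
/-- A group with this frame and a fused centre is the permutation group or has a normal subgroup
of order eight. -/
theorem classify [Finite G]
    (hex : ∃ g : G, g * s * g⁻¹ * s = s * (g * s * g⁻¹) ∧ g * s * g⁻¹ ≠ s) :
    (∃ (N : Subgroup G) (_ : N.Normal), IsMulCommutative N ∧ (∀ n ∈ N, n ^ 2 = 1) ∧
      Nat.card N = 8 ∧
      Nonempty (G ⧸ N ≃* Matrix.ProjectiveSpecialLinearGroup (Fin 3) (ZMod 2))) ∨
    Spor.IsoM12 G := by
  have hfe := F.isConj_eI hex
  obtain ⟨y, h3, hs, he⟩ := F.exists_cycle hfe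
  obtain ⟨i, hi, A⟩ := F.exists_amalgam h3 hs he
  rcases lt_or_ge i 16 with h16 | h16
  · obtain ⟨F', A'⟩ := A.canonical h16
    exact Or.inr A'.isoM12
  refine Or.inl ?_
  haveI hN : F.elem.Normal := A.elem_normal h16 hi
  have hs1 : s ≠ 1 := fun e => by
    have := F.orderOf_s
    rw [e, orderOf_one] at this
    omega
  refine ⟨F.elem, hN, ⟨⟨fun a b => Subtype.ext (F.elem_comm a a.2 b b.2)⟩⟩, F.elem_sq,
    F.card_elem, Cfsg.Agent.H80.Alt.nonempty_quotient_psl _ F.elem_comm F.elem_sq F.card_elem
      F.s_mem_elem hs1 F.card_centralizer ?_ ?_⟩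
  · rintro _ ⟨a, ha, hA, rfl⟩ ha1
    simp only [memE, Bool.or_eq_true] at hA
    rcases hA with (h | h) | h
    · exact absurd (by rw [Nat.eq_of_beq_eq_true h, F.map_zero]) ha1
    · have hc := Nat.eq_of_beq_eq_true h
      rcases cls_cases ha (by omega) with e | e | e | e
      · rw [e, F.map_s]
      all_goals omega
    · have hc := Nat.eq_of_beq_eq_true h
      exact hfe.trans (F.isConj_of_cls_eq (by decide) ha (cls_eI.trans hc.symm)
        (by rw [cls_eI]; norm_num))
  · intro x hx
    obtain ⟨a, ha, rfl⟩ := F.surj x (hx s F.s_mem_elem)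
    have hall : allL (fun z => imp (memE z) (commB a z)) = true := by
      refine allFrom_of_forall fun z _ hz => ?_
      cases hE : memE z with
      | false => rfl
      | true =>
        have hz' := (F.commB_iff ha (b := z) (by omega)).mpr (hx _ ⟨z, by omega, hE, rfl⟩)
        simp [imp, hz']
    exact ⟨a, ha, imp_spec (allL_spec elem_self_chk ha) hall, rfl⟩

end Frame

end Cfsg.Agent.H80.M12
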