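import Cfsg.Agent.H80.Alt.Main
import Cfsg.Agent.H80.Alt.MainM12

/-! The case distinction for the fused centre. -/

set_option autoImplicit false

namespace Cfsg.Agent.H80.Alt

namespace Frame

variable {G : Type*} [Group G] {s : G} (F : Frame s)

include F in
/-- Either one class fuses, giving a normal subgroup of order eight, or two do, giving the
alternating group of eight letters as a subgroup. -/
theorem classify [Finite G] {L Q : Subgroup G} (hL : L = Subgroup.centralizer ({s} : Set G))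
    (hQ : Q = (Cfsg.pCore 2 L).map L.subtype) (h32 : Nat.card Q = 32) {g : G}
    (hg : g * s * g⁻¹ ∈ Q) (hne : g * s * g⁻¹ ≠ s) :
    (∃ (N : Subgroup G) (_ : N.Normal), IsMulCommutative N ∧ (∀ n ∈ N, n ^ 2 = 1) ∧
      Nat.card N = 8 ∧
      Nonempty (G ⧸ N ≃* Matrix.ProjectiveSpecialLinearGroup (Fin 3) (ZMod 2))) ∨
    ∃ φ : A8 →* G, Function.Injective φ ∧ ∃ u v : A8, (u : P8) = s8 ∧ (v : P8) = t8 ∧
      (∀ x : G, x * φ u = φ u * x → x ∈ φ.range) ∧ ¬ IsConj (φ u) (φ v) := by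
  obtain ⟨k, hk, hc⟩ := F.exists_fused_class hL hQ h32 hg hne
  by_cases hone : ∀ j, j < 3 → j ≠ k → ¬ IsConj s (F.ι (eK j))
  · exact Or.inl (F.normal_case hk hc hone)
  push Not at hone
  obtain ⟨j, hj, hjk, hcj⟩ := hone
  rcases lt_or_gt_of_ne hjk with h | h
  · exact Or.inr (F.pair_case h hk hcj hc)
  · exact Or.inr (F.pair_case h hj hc hcj)

end Frame

theorem exists_fusion_of_core {G : Type*} [Group G] {s : G} {L Q : Subgroup G}
    (hL : L = Subgroup.centralizer ({s} : Set G)) (hQ : Q = (Cfsg.pCore 2 L).map L.subtype)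
    {g : G} (hg : g * s * g⁻¹ ∈ Q) (hne : g * s * g⁻¹ ≠ s) :
    ∃ g : G, g * s * g⁻¹ * s = s * (g * s * g⁻¹) ∧ g * s * g⁻¹ ≠ s := by
  have h := core_le hQ hg
  rw [hL, Subgroup.mem_centralizer_singleton_iff] at h
  exact ⟨g, h, hne⟩

end Cfsg.Agent.H80.Alt
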