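import Cfsg.Agent.H16.CertArr

/-! Permutations of eight letters representing the generators. -/

set_option autoImplicit false
set_option maxRecDepth 20000

namespace Cfsg.Agent.H80.Alt

open Cfsg.Agent.H16

/-- images of the eight letters -/
def modelImg : List (List Nat) :=
  [[1,0,4,5,6,7,3,2], [1,0,7,6,2,3,4,5], [2,3,1,0,4,5,7,6], [3,2,0,1,4,5,7,6], [0,3,1,2,4,7,5,6], [0,2,3,1,4,6,7,5], [0,3,1,2,4,6,7,5], [0,2,3,1,4,7,5,6]]

/-- words of the three-cycles -/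
def cycleWords : WTree :=
  (WTree.node (WTree.node (WTree.node (WTree.node (WTree.node (WTree.node (WTree.node (WTree.node (WTree.node (WTree.leaf []) (WTree.leaf [])) (WTree.node (WTree.leaf []) (WTree.leaf []))) (WTree.node (WTree.node (WTree.leaf []) (WTree.leaf [])) (WTree.node (WTree.leaf []) (WTree.leaf [])))) (WTree.node (WTree.node (WTree.node (WTree.leaf []) (WTree.leaf [])) (WTree.node (WTree.leaf [0,0,2,4,1,7,1,4]) (WTree.leaf [5,0,4,6,1,4]))) (WTree.node (WTree.node (WTree.leaf [0,2,2,5,7,1]) (WTree.leaf [0,4,6,1])) (WTree.node (WTree.leaf [4,0,7,0,3,5,1]) (WTree.leaf [4,0,4,6,1,5]))))) (WTree.node (WTree.node (WTree.node (WTree.node (WTree.leaf []) (WTree.leaf [0,0,5,6,1,5,7,1])) (WTree.node (WTree.leaf []) (WTree.leaf [0,0,5,1,7,1,4]))) (WTree.node (WTree.node (WTree.leaf [3,5,3,6]) (WTree.leaf [1,1,5,0,6,0,4])) (WTree.node (WTree.leaf [3,4,2,7]) (WTree.leaf [1,4,6,0,2,4,6]))))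 (WTree.node (WTree.node (WTree.node (WTree.leaf []) (WTree.leaf [5,0,5,7,1,4])) (WTree.node (WTree.leaf [0,3,6,0,5,0,6]) (WTree.leaf []))) (WTree.node (WTree.node (WTree.leaf [1,2,2,4,6,0]) (WTree.leaf [1,5,7,0,5,6])) (WTree.node (WTree.leaf [3,1,4,6,0,5,7]) (WTree.leaf [1,5,7,0])))))) (WTree.node (WTree.node (WTree.node (WTree.node (WTree.node (WTree.leaf []) (WTree.leaf [0,3,5,3,6,1])) (WTree.node (WTree.leaf [2,2,5,7]) (WTree.leaf [1,2,4,2,7,0]))) (WTree.node (WTree.node (WTree.leaf []) (WTree.leaf [0,2,4,2,7,1])) (WTree.node (WTree.leaf [2,2,4,6]) (WTree.leaf [1,3,5,3,6,0])))) (WTree.node (WTree.node (WTree.node (WTree.leaf []) (WTree.leaf [0,5,7,1])) (WTree.node (WTree.leaf [2,4,1,5,7,0,4]) (WTree.leaf [4,1,5,7,0,5]))) (WTree.node (WTree.node (WTree.leaf [0,2,2,4,6,1]) (WTree.leaf [])) (WTree.node (WTree.leaf [1,2,7,1,5,0,7]) (WTree.leaf [5,1,4,6,0,4]))))) (WTree.node (WTree.node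 (WTree.node (WTree.node (WTree.leaf []) (WTree.leaf [0,4,2,1,6,1,5])) (WTree.node (WTree.leaf [2,5,3,6]) (WTree.leaf [1,5,3,1,6,0,5]))) (WTree.node (WTree.node (WTree.leaf [2,4,2,7]) (WTree.leaf [0,7,3,1,4,0,7])) (WTree.node (WTree.leaf []) (WTree.leaf [1,4,6,0,3,5,7])))) (WTree.node (WTree.node (WTree.node (WTree.leaf []) (WTree.leaf [4,0,5,7,1,5])) (WTree.node (WTree.leaf [2,1,5,7,0,4,6]) (WTree.leaf [1,4,6,0]))) (WTree.node (WTree.node (WTree.leaf [1,2,2,5,7,0]) (WTree.leaf [1,4,6,0,4,7])) (WTree.node (WTree.leaf [3,1,5,7,0,5,7]) (WTree.leaf []))))))) (WTree.node (WTree.node (WTree.node (WTree.node (WTree.node (WTree.node (WTree.leaf []) (WTree.leaf [])) (WTree.node (WTree.leaf [0,0,5,6,1,5,7,1]) (WTree.leaf [5,0,5,7,1,4]))) (WTree.node (WTree.node (WTree.leaf [0,3,5,3,6,1]) (WTree.leaf [0,5,7,1])) (WTree.node (WTree.leaf [0,4,2,1,6,1,5]) (WTree.leaf [4,0,5,7,1,5])))) (WTree.node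 (WTree.node (WTree.node (WTree.leaf []) (WTree.leaf [])) (WTree.node (WTree.leaf []) (WTree.leaf []))) (WTree.node (WTree.node (WTree.leaf []) (WTree.leaf [])) (WTree.node (WTree.leaf []) (WTree.leaf []))))) (WTree.node (WTree.node (WTree.node (WTree.node (WTree.leaf [0,0,2,4,1,7,1,4]) (WTree.leaf [])) (WTree.node (WTree.leaf []) (WTree.leaf [0,4,7,0,4,7]))) (WTree.node (WTree.node (WTree.leaf [4,6,0,2,4,6,1]) (WTree.leaf [0,0,4,7,1,1])) (WTree.node (WTree.leaf [0,0,2,2,5,6,0]) (WTree.leaf [4,1,5,6,0,5])))) (WTree.node (WTree.node (WTree.node (WTree.leaf [5,0,4,6,1,4]) (WTree.leaf [])) (WTree.node (WTree.leaf [5,6,1,5,6,1]) (WTree.leaf []))) (WTree.node (WTree.node (WTree.leaf [5,1,4,7,0,4]) (WTree.leaf [2,2,4,7,0,0,0])) (WTree.node (WTree.leaf [6,0,5,0,6,0,3]) (WTree.leaf [2,4,0,2,2,1,6])))))) (WTree.node (WTree.node (WTree.node (WTree.node (WTree.node (WTree.leaf [0,2,2,5,7,1])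 (WTree.leaf [])) (WTree.node (WTree.leaf [0,2,4,6,1,5,7]) (WTree.leaf [5,1,5,6,0,4]))) (WTree.node (WTree.node (WTree.leaf []) (WTree.leaf [0,2,5,3,6,1])) (WTree.node (WTree.leaf [0,2,4,6,1,4,6]) (WTree.leaf [7,1,5,6,0,6])))) (WTree.node (WTree.node (WTree.node (WTree.leaf [0,4,6,1]) (WTree.leaf [])) (WTree.node (WTree.leaf [0,0,5,6,1,1]) (WTree.leaf [0,0,0,2,2,5,6]))) (WTree.node (WTree.node (WTree.leaf [0,3,4,2,7,1]) (WTree.leaf [])) (WTree.node (WTree.leaf [1,4,7,0]) (WTree.leaf [0,0,0,2,2,4,7]))))) (WTree.node (WTree.node (WTree.node (WTree.node (WTree.leaf [4,0,7,0,3,5,1]) (WTree.leaf [])) (WTree.node (WTree.leaf [1,2,2,4,7,1,1]) (WTree.leaf [2,1,7,1,4,1,7]))) (WTree.node (WTree.node (WTree.leaf [5,7,0,2,4,6,1]) (WTree.leaf [1,5,6,0])) (WTree.node (WTree.leaf []) (WTree.leaf [5,0,4,7,0,5,7])))) (WTree.node (WTree.node (WTree.node (WTree.leaf [4,0,4,6,1,5]) (WTree.leaf []))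 (WTree.node (WTree.leaf [1,5,6,1,5,6]) (WTree.leaf [2,5,0,0,0,3,7]))) (WTree.node (WTree.node (WTree.leaf [7,1,4,7,0,6]) (WTree.leaf [2,2,5,6,0,0,0])) (WTree.node (WTree.leaf [4,6,1,5,6,1,4]) (WTree.leaf [])))))))) (WTree.node (WTree.node (WTree.node (WTree.node (WTree.node (WTree.node (WTree.node (WTree.leaf []) (WTree.leaf [0,0,2,4,1,7,1,4])) (WTree.node (WTree.leaf []) (WTree.leaf [0,3,6,0,5,0,6]))) (WTree.node (WTree.node (WTree.leaf [2,2,5,7]) (WTree.leaf [2,4,1,5,7,0,4])) (WTree.node (WTree.leaf [2,5,3,6]) (WTree.leaf [2,1,5,7,0,4,6])))) (WTree.node (WTree.node (WTree.node (WTree.leaf [0,0,5,6,1,5,7,1]) (WTree.leaf [])) (WTree.node (WTree.leaf []) (WTree.leaf [5,6,1,5,6,1]))) (WTree.node (WTree.node (WTree.leaf [0,2,4,6,1,5,7]) (WTree.leaf [0,0,5,6,1,1])) (WTree.node (WTree.leaf [1,2,2,4,7,1,1]) (WTree.leaf [1,5,6,1,5,6]))))) (WTree.node (WTree.node (WTree.node (WTree.node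 (WTree.leaf []) (WTree.leaf [])) (WTree.node (WTree.leaf []) (WTree.leaf []))) (WTree.node (WTree.node (WTree.leaf []) (WTree.leaf [])) (WTree.node (WTree.leaf []) (WTree.leaf [])))) (WTree.node (WTree.node (WTree.node (WTree.leaf [0,0,5,1,7,1,4]) (WTree.leaf [0,4,7,0,4,7])) (WTree.node (WTree.leaf []) (WTree.leaf []))) (WTree.node (WTree.node (WTree.leaf [4,0,5,6,1,5]) (WTree.leaf [7,1,5,0,7,1,2])) (WTree.node (WTree.leaf [1,1,5,6,0,0]) (WTree.leaf [2,1,4,6,0,3])))))) (WTree.node (WTree.node (WTree.node (WTree.node (WTree.node (WTree.leaf [3,5,3,6]) (WTree.leaf [4,6,0,2,4,6,1])) (WTree.node (WTree.leaf []) (WTree.leaf [4,0,4,7,1,5]))) (WTree.node (WTree.node (WTree.leaf []) (WTree.leaf [6,0,4,7,1,7])) (WTree.node (WTree.leaf [5,7]) (WTree.leaf [0,5,6,1,5,7])))) (WTree.node (WTree.node (WTree.node (WTree.leaf [1,1,5,0,6,0,4]) (WTree.leaf [0,0,4,7,1,1])) (WTree.node (WTree.leaf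 []) (WTree.leaf [3,0,6,1,4,0,6]))) (WTree.node (WTree.node (WTree.leaf [6,0,5,6,1,7]) (WTree.leaf [])) (WTree.node (WTree.leaf [5,0,5,6,1,7]) (WTree.leaf [0,3,1,7,1,4,1,7]))))) (WTree.node (WTree.node (WTree.node (WTree.node (WTree.leaf [3,4,2,7]) (WTree.leaf [0,0,2,2,5,6,0])) (WTree.node (WTree.leaf []) (WTree.leaf [1,1,4,7,0,0]))) (WTree.node (WTree.node (WTree.leaf [4,6]) (WTree.leaf [6,0,4,7,1,4])) (WTree.node (WTree.leaf []) (WTree.leaf [0,5,6,1])))) (WTree.node (WTree.node (WTree.node (WTree.leaf [1,4,6,0,2,4,6]) (WTree.leaf [4,1,5,6,0,5])) (WTree.node (WTree.leaf []) (WTree.leaf [2,1,5,7,0,3]))) (WTree.node (WTree.node (WTree.leaf [4,6,0,4,7,1]) (WTree.leaf [0,3,7,1,4,0,2,7])) (WTree.node (WTree.leaf [0,4,7,1]) (WTree.leaf []))))))) (WTree.node (WTree.node (WTree.node (WTree.node (WTree.node (WTree.node (WTree.leaf []) (WTree.leaf [5,0,4,6,1,4])) (WTree.node (WTree.leaf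 [0,0,5,1,7,1,4]) (WTree.leaf []))) (WTree.node (WTree.node (WTree.leaf [1,2,4,2,7,0]) (WTree.leaf [4,1,5,7,0,5])) (WTree.node (WTree.leaf [1,5,3,1,6,0,5]) (WTree.leaf [1,4,6,0])))) (WTree.node (WTree.node (WTree.node (WTree.leaf [5,0,5,7,1,4]) (WTree.leaf [])) (WTree.node (WTree.leaf [0,4,7,0,4,7]) (WTree.leaf []))) (WTree.node (WTree.node (WTree.leaf [5,1,5,6,0,4]) (WTree.leaf [0,0,0,2,2,5,6])) (WTree.node (WTree.leaf [2,1,7,1,4,1,7]) (WTree.leaf [2,5,0,0,0,3,7]))))) (WTree.node (WTree.node (WTree.node (WTree.node (WTree.leaf [0,3,6,0,5,0,6]) (WTree.leaf [5,6,1,5,6,1])) (WTree.node (WTree.leaf []) (WTree.leaf []))) (WTree.node (WTree.node (WTree.leaf [4,0,4,7,1,5]) (WTree.leaf [3,0,6,1,4,0,6])) (WTree.node (WTree.leaf [1,1,4,7,0,0]) (WTree.leaf [2,1,5,7,0,3])))) (WTree.node (WTree.node (WTree.node (WTree.leaf []) (WTree.leaf [])) (WTree.node (WTree.leaf []) (WTree.leaf [])))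 (WTree.node (WTree.node (WTree.leaf []) (WTree.leaf [])) (WTree.node (WTree.leaf []) (WTree.leaf [])))))) (WTree.node (WTree.node (WTree.node (WTree.node (WTree.node (WTree.leaf [1,2,2,4,6,0]) (WTree.leaf [5,1,4,7,0,4])) (WTree.node (WTree.leaf [4,0,5,6,1,5]) (WTree.leaf []))) (WTree.node (WTree.node (WTree.leaf []) (WTree.leaf [0,2,5,1,6,1,4,2])) (WTree.node (WTree.leaf [7,0,4,7,1,6]) (WTree.leaf [0,0,5,7,1,1])))) (WTree.node (WTree.node (WTree.node (WTree.leaf [1,5,7,0,5,6]) (WTree.leaf [2,2,4,7,0,0,0])) (WTree.node (WTree.leaf [7,1,5,0,7,1,2]) (WTree.leaf []))) (WTree.node (WTree.node (WTree.leaf [0,0,4,6,1,1,5,6]) (WTree.leaf [])) (WTree.node (WTree.leaf [0,5,1,7,3,1,2,5]) (WTree.leaf [5,6]))))) (WTree.node (WTree.node (WTree.node (WTree.node (WTree.leaf [3,1,4,6,0,5,7]) (WTree.leaf [6,0,5,0,6,0,3])) (WTree.node (WTree.leaf [1,1,5,6,0,0]) (WTree.leaf []))) (WTree.node (WTree.node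 (WTree.leaf [7,0,5,6,1,6]) (WTree.leaf [1,2,4,0,7,1,2,5])) (WTree.node (WTree.leaf []) (WTree.leaf [3,1,5,7,0,2])))) (WTree.node (WTree.node (WTree.node (WTree.leaf [1,5,7,0]) (WTree.leaf [2,4,0,2,2,1,6])) (WTree.node (WTree.leaf [2,1,4,6,0,3]) (WTree.leaf []))) (WTree.node (WTree.node (WTree.leaf [0,0,4,6,1,1]) (WTree.leaf [4,7])) (WTree.node (WTree.leaf [3,1,4,6,0,2]) (WTree.leaf []))))))))) (WTree.node (WTree.node (WTree.node (WTree.node (WTree.node (WTree.node (WTree.node (WTree.node (WTree.leaf []) (WTree.leaf [0,2,2,5,7,1])) (WTree.node (WTree.leaf [3,5,3,6]) (WTree.leaf [1,2,2,4,6,0]))) (WTree.node (WTree.node (WTree.leaf []) (WTree.leaf [0,2,2,4,6,1])) (WTree.node (WTree.leaf [2,4,2,7]) (WTree.leaf [1,2,2,5,7,0])))) (WTree.node (WTree.node (WTree.node (WTree.leaf [0,3,5,3,6,1]) (WTree.leaf [])) (WTree.node (WTree.leaf [4,6,0,2,4,6,1]) (WTree.leaf [5,1,4,7,0,4]))) (WTree.node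 (WTree.node (WTree.leaf []) (WTree.leaf [0,3,4,2,7,1])) (WTree.node (WTree.leaf [5,7,0,2,4,6,1]) (WTree.leaf [7,1,4,7,0,6]))))) (WTree.node (WTree.node (WTree.node (WTree.node (WTree.leaf [2,2,5,7]) (WTree.leaf [0,2,4,6,1,5,7])) (WTree.node (WTree.leaf []) (WTree.leaf [4,0,5,6,1,5]))) (WTree.node (WTree.node (WTree.leaf []) (WTree.leaf [6,0,5,6,1,7])) (WTree.node (WTree.leaf [4,6]) (WTree.leaf [4,6,0,4,7,1])))) (WTree.node (WTree.node (WTree.node (WTree.leaf [1,2,4,2,7,0]) (WTree.leaf [5,1,5,6,0,4])) (WTree.node (WTree.leaf [4,0,4,7,1,5]) (WTree.leaf []))) (WTree.node (WTree.node (WTree.leaf []) (WTree.leaf [0,0,4,6,1,1,5,6])) (WTree.node (WTree.leaf [7,0,5,6,1,6]) (WTree.leaf [0,0,4,6,1,1])))))) (WTree.node (WTree.node (WTree.node (WTree.node (WTree.node (WTree.leaf []) (WTree.leaf [])) (WTree.node (WTree.leaf []) (WTree.leaf []))) (WTree.node (WTree.node (WTree.leaf []) (WTree.leaf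 [])) (WTree.node (WTree.leaf []) (WTree.leaf [])))) (WTree.node (WTree.node (WTree.node (WTree.leaf [0,2,4,2,7,1]) (WTree.leaf [0,2,5,3,6,1])) (WTree.node (WTree.leaf [6,0,4,7,1,7]) (WTree.leaf [0,2,5,1,6,1,4,2]))) (WTree.node (WTree.node (WTree.leaf []) (WTree.leaf [])) (WTree.node (WTree.leaf [5,0,5,6,1,4]) (WTree.leaf [0,6,1,4,0,2,7]))))) (WTree.node (WTree.node (WTree.node (WTree.node (WTree.leaf [2,2,4,6]) (WTree.leaf [0,2,4,6,1,4,6])) (WTree.node (WTree.leaf [5,7]) (WTree.leaf [7,0,4,7,1,6]))) (WTree.node (WTree.node (WTree.leaf []) (WTree.leaf [5,0,4,7,1,4])) (WTree.node (WTree.leaf []) (WTree.leaf [5,7,0,5,6,1])))) (WTree.node (WTree.node (WTree.node (WTree.leaf [1,3,5,3,6,0]) (WTree.leaf [7,1,5,6,0,6])) (WTree.node (WTree.leaf [0,5,6,1,5,7]) (WTree.leaf [0,0,5,7,1,1]))) (WTree.node (WTree.node (WTree.leaf []) (WTree.leaf [2,7,1,5,0,7,1])) (WTree.node (WTree.leaf [0,4,7,1,4,6])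 (WTree.leaf []))))))) (WTree.node (WTree.node (WTree.node (WTree.node (WTree.node (WTree.node (WTree.leaf []) (WTree.leaf [0,4,6,1])) (WTree.node (WTree.leaf [1,1,5,0,6,0,4]) (WTree.leaf [1,5,7,0,5,6]))) (WTree.node (WTree.node (WTree.leaf [0,2,4,2,7,1]) (WTree.leaf [])) (WTree.node (WTree.leaf [0,7,3,1,4,0,7]) (WTree.leaf [1,4,6,0,4,7])))) (WTree.node (WTree.node (WTree.node (WTree.leaf [0,5,7,1]) (WTree.leaf [])) (WTree.node (WTree.leaf [0,0,4,7,1,1]) (WTree.leaf [2,2,4,7,0,0,0]))) (WTree.node (WTree.node (WTree.leaf [0,2,5,3,6,1]) (WTree.leaf [])) (WTree.node (WTree.leaf [1,5,6,0]) (WTree.leaf [2,2,5,6,0,0,0]))))) (WTree.node (WTree.node (WTree.node (WTree.node (WTree.leaf [2,4,1,5,7,0,4]) (WTree.leaf [0,0,5,6,1,1])) (WTree.node (WTree.leaf []) (WTree.leaf [7,1,5,0,7,1,2]))) (WTree.node (WTree.node (WTree.leaf [6,0,4,7,1,7]) (WTree.leaf [])) (WTree.node (WTree.leaf [6,0,4,7,1,4])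 (WTree.leaf [0,3,7,1,4,0,2,7])))) (WTree.node (WTree.node (WTree.node (WTree.leaf [4,1,5,7,0,5]) (WTree.leaf [0,0,0,2,2,5,6])) (WTree.node (WTree.leaf [3,0,6,1,4,0,6]) (WTree.leaf []))) (WTree.node (WTree.node (WTree.leaf [0,2,5,1,6,1,4,2]) (WTree.leaf [])) (WTree.node (WTree.leaf [1,2,4,0,7,1,2,5]) (WTree.leaf [4,7])))))) (WTree.node (WTree.node (WTree.node (WTree.node (WTree.node (WTree.leaf [0,2,2,4,6,1]) (WTree.leaf [0,3,4,2,7,1])) (WTree.node (WTree.leaf [6,0,5,6,1,7]) (WTree.leaf [0,0,4,6,1,1,5,6]))) (WTree.node (WTree.node (WTree.leaf []) (WTree.leaf [])) (WTree.node (WTree.leaf [5,0,4,7,1,4]) (WTree.leaf [2,7,1,5,0,7,1])))) (WTree.node (WTree.node (WTree.node (WTree.leaf []) (WTree.leaf [])) (WTree.node (WTree.leaf []) (WTree.leaf []))) (WTree.node (WTree.node (WTree.leaf []) (WTree.leaf [])) (WTree.node (WTree.leaf []) (WTree.leaf []))))) (WTree.node (WTree.node (WTree.node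 (WTree.node (WTree.leaf [1,2,7,1,5,0,7]) (WTree.leaf [1,4,7,0])) (WTree.node (WTree.leaf [5,0,5,6,1,7]) (WTree.leaf [0,5,1,7,3,1,2,5]))) (WTree.node (WTree.node (WTree.leaf [5,0,5,6,1,4]) (WTree.leaf [])) (WTree.node (WTree.leaf []) (WTree.leaf [0,2,5,0,6,1,5,3])))) (WTree.node (WTree.node (WTree.node (WTree.leaf [5,1,4,6,0,4]) (WTree.leaf [0,0,0,2,2,4,7])) (WTree.node (WTree.leaf [0,3,1,7,1,4,1,7]) (WTree.leaf [5,6]))) (WTree.node (WTree.node (WTree.leaf [0,6,1,4,0,2,7]) (WTree.leaf [])) (WTree.node (WTree.leaf [0,4,1,5,6,0,2,4]) (WTree.leaf [])))))))) (WTree.node (WTree.node (WTree.node (WTree.node (WTree.node (WTree.node (WTree.node (WTree.leaf []) (WTree.leaf [4,0,7,0,3,5,1])) (WTree.node (WTree.leaf [3,4,2,7]) (WTree.leaf [3,1,4,6,0,5,7]))) (WTree.node (WTree.node (WTree.leaf [2,2,4,6]) (WTree.leaf [1,2,7,1,5,0,7])) (WTree.node (WTree.leaf []) (WTree.leaf [3,1,5,7,0,5,7]))))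 (WTree.node (WTree.node (WTree.node (WTree.leaf [0,4,2,1,6,1,5]) (WTree.leaf [])) (WTree.node (WTree.leaf [0,0,2,2,5,6,0]) (WTree.leaf [6,0,5,0,6,0,3]))) (WTree.node (WTree.node (WTree.leaf [0,2,4,6,1,4,6]) (WTree.leaf [1,4,7,0])) (WTree.node (WTree.leaf []) (WTree.leaf [4,6,1,5,6,1,4]))))) (WTree.node (WTree.node (WTree.node (WTree.node (WTree.leaf [2,5,3,6]) (WTree.leaf [1,2,2,4,7,1,1])) (WTree.node (WTree.leaf []) (WTree.leaf [1,1,5,6,0,0]))) (WTree.node (WTree.node (WTree.leaf [5,7]) (WTree.leaf [5,0,5,6,1,7])) (WTree.node (WTree.leaf []) (WTree.leaf [0,4,7,1])))) (WTree.node (WTree.node (WTree.node (WTree.leaf [1,5,3,1,6,0,5]) (WTree.leaf [2,1,7,1,4,1,7])) (WTree.node (WTree.leaf [1,1,4,7,0,0]) (WTree.leaf []))) (WTree.node (WTree.node (WTree.leaf [7,0,4,7,1,6]) (WTree.leaf [0,5,1,7,3,1,2,5])) (WTree.node (WTree.leaf []) (WTree.leaf [3,1,4,6,0,2])))))) (WTree.node (WTree.node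 (WTree.node (WTree.node (WTree.node (WTree.leaf [2,4,2,7]) (WTree.leaf [5,7,0,2,4,6,1])) (WTree.node (WTree.leaf [4,6]) (WTree.leaf [7,0,5,6,1,6]))) (WTree.node (WTree.node (WTree.leaf []) (WTree.leaf [5,0,5,6,1,4])) (WTree.node (WTree.leaf []) (WTree.leaf [0,4,7,1,4,6])))) (WTree.node (WTree.node (WTree.node (WTree.leaf [0,7,3,1,4,0,7]) (WTree.leaf [1,5,6,0])) (WTree.node (WTree.leaf [6,0,4,7,1,4]) (WTree.leaf [1,2,4,0,7,1,2,5]))) (WTree.node (WTree.node (WTree.leaf [5,0,4,7,1,4]) (WTree.leaf [])) (WTree.node (WTree.leaf []) (WTree.leaf [0,4,1,5,6,0,2,4]))))) (WTree.node (WTree.node (WTree.node (WTree.node (WTree.leaf []) (WTree.leaf [])) (WTree.node (WTree.leaf []) (WTree.leaf []))) (WTree.node (WTree.node (WTree.leaf []) (WTree.leaf [])) (WTree.node (WTree.leaf []) (WTree.leaf [])))) (WTree.node (WTree.node (WTree.node (WTree.leaf [1,4,6,0,3,5,7]) (WTree.leaf [5,0,4,7,0,5,7]))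 (WTree.node (WTree.leaf [0,5,6,1]) (WTree.leaf [3,1,5,7,0,2]))) (WTree.node (WTree.node (WTree.leaf [5,7,0,5,6,1]) (WTree.leaf [0,2,5,0,6,1,5,3])) (WTree.node (WTree.leaf []) (WTree.leaf []))))))) (WTree.node (WTree.node (WTree.node (WTree.node (WTree.node (WTree.node (WTree.leaf []) (WTree.leaf [4,0,4,6,1,5])) (WTree.node (WTree.leaf [1,4,6,0,2,4,6]) (WTree.leaf [1,5,7,0]))) (WTree.node (WTree.node (WTree.leaf [1,3,5,3,6,0]) (WTree.leaf [5,1,4,6,0,4])) (WTree.node (WTree.leaf [1,4,6,0,3,5,7]) (WTree.leaf [])))) (WTree.node (WTree.node (WTree.node (WTree.leaf [4,0,5,7,1,5]) (WTree.leaf [])) (WTree.node (WTree.leaf [4,1,5,6,0,5]) (WTree.leaf [2,4,0,2,2,1,6]))) (WTree.node (WTree.node (WTree.leaf [7,1,5,6,0,6]) (WTree.leaf [0,0,0,2,2,4,7])) (WTree.node (WTree.leaf [5,0,4,7,0,5,7]) (WTree.leaf []))))) (WTree.node (WTree.node (WTree.node (WTree.node (WTree.leaf [2,1,5,7,0,4,6]) (WTree.leaf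 [1,5,6,1,5,6])) (WTree.node (WTree.leaf []) (WTree.leaf [2,1,4,6,0,3]))) (WTree.node (WTree.node (WTree.leaf [0,5,6,1,5,7]) (WTree.leaf [0,3,1,7,1,4,1,7])) (WTree.node (WTree.leaf [0,5,6,1]) (WTree.leaf [])))) (WTree.node (WTree.node (WTree.node (WTree.leaf [1,4,6,0]) (WTree.leaf [2,5,0,0,0,3,7])) (WTree.node (WTree.leaf [2,1,5,7,0,3]) (WTree.leaf []))) (WTree.node (WTree.node (WTree.leaf [0,0,5,7,1,1]) (WTree.leaf [5,6])) (WTree.node (WTree.leaf [3,1,5,7,0,2]) (WTree.leaf [])))))) (WTree.node (WTree.node (WTree.node (WTree.node (WTree.node (WTree.leaf [1,2,2,5,7,0]) (WTree.leaf [7,1,4,7,0,6])) (WTree.node (WTree.leaf [4,6,0,4,7,1]) (WTree.leaf [0,0,4,6,1,1]))) (WTree.node (WTree.node (WTree.leaf []) (WTree.leaf [0,6,1,4,0,2,7])) (WTree.node (WTree.leaf [5,7,0,5,6,1]) (WTree.leaf [])))) (WTree.node (WTree.node (WTree.node (WTree.leaf [1,4,6,0,4,7]) (WTree.leaf [2,2,5,6,0,0,0]))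 (WTree.node (WTree.leaf [0,3,7,1,4,0,2,7]) (WTree.leaf [4,7]))) (WTree.node (WTree.node (WTree.leaf [2,7,1,5,0,7,1]) (WTree.leaf [])) (WTree.node (WTree.leaf [0,2,5,0,6,1,5,3]) (WTree.leaf []))))) (WTree.node (WTree.node (WTree.node (WTree.node (WTree.leaf [3,1,5,7,0,5,7]) (WTree.leaf [4,6,1,5,6,1,4])) (WTree.node (WTree.leaf [0,4,7,1]) (WTree.leaf [3,1,4,6,0,2]))) (WTree.node (WTree.node (WTree.leaf [0,4,7,1,4,6]) (WTree.leaf [0,4,1,5,6,0,2,4])) (WTree.node (WTree.leaf []) (WTree.leaf [])))) (WTree.node (WTree.node (WTree.node (WTree.leaf []) (WTree.leaf [])) (WTree.node (WTree.leaf []) (WTree.leaf []))) (WTree.node (WTree.node (WTree.leaf []) (WTree.leaf [])) (WTree.node (WTree.leaf []) (WTree.leaf []))))))))))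

/-- words giving the conjugates of the involution -/
def conjWords : List (List Nat) :=
  [[], [4], [5], [6], [7], [0,4], [1,4], [6,4], [7,4], [0,5], [1,5], [6,5], [7,5], [0,6], [1,6], [0,7], [1,7], [6,0,4], [7,0,4], [6,1,4], [7,1,4], [0,6,4], [1,6,4], [0,7,4], [1,7,4], [6,0,5], [7,0,5], [6,1,5], [7,1,5], [0,6,5], [1,6,5], [0,7,5], [1,7,5], [4,0,6], [5,0,6], [4,1,6], [5,1,6], [4,0,7], [5,0,7], [4,1,7], [5,1,7], [0,6,0,4], [1,6,0,4], [0,7,0,4], [1,7,0,4], [0,6,1,4], [1,6,1,4], [0,7,1,4], [1,7,1,4], [4,0,6,4], [5,0,6,4], [6,0,6,4], [7,0,6,4], [4,1,6,4], [5,1,6,4], [6,1,6,4], [7,1,6,4], [4,0,7,4], [5,0,7,4], [6,0,7,4], [7,0,7,4], [4,1,7,4], [5,1,7,4], [6,1,7,4], [7,1,7,4], [4,0,6,5], [5,0,6,5], [4,1,6,5], [5,1,6,5], [4,0,7,5], [5,0,7,5], [4,1,7,5], [5,1,7,5], [4,0,6,0,4], [5,0,6,0,4], [4,1,6,0,4], [5,1,6,0,4], [4,0,7,0,4], [5,0,7,0,4], [4,1,7,0,4], [5,1,7,0,4], [4,0,6,1,4], [5,0,6,1,4],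 [4,1,6,1,4], [5,1,6,1,4], [4,0,7,1,4], [5,0,7,1,4], [4,1,7,1,4], [5,1,7,1,4], [6,4,0,6,4], [7,4,0,6,4], [6,5,0,6,4], [7,5,0,6,4], [6,4,1,6,4], [7,4,1,6,4], [6,5,1,6,4], [7,5,1,6,4], [6,4,0,7,4], [7,4,0,7,4], [6,5,0,7,4], [7,5,0,7,4], [6,4,1,7,4], [7,4,1,7,4], [6,5,1,7,4], [7,5,1,7,4]]

/-- table index of a second involution -/
def tI : Nat := 28

end Cfsg.Agent.H80.Alt
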